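import Mathlib.Data.Int.Basic

/-! Certificates for spanning the lattice; all checked by the kernel. -/

set_option autoImplicit false
set_option maxRecDepth 20000

namespace CfsgLib.RuPerm.Data

/-- derivations: parent, operation (5: table entry), point -/
def spanDer : List (ℕ × ℕ × ℕ) := [(0,5,0), (0,5,1505), (0,5,2337), (0,5,7001), (0,5,7577), (0,5,18), (0,5,110), (0,5,66), (0,5,1202), (0,5,1234), (0,5,1174), (0,5,1258), (0,5,8110), (0,5,8130), (0,5,8058), (0,5,8050), (0,5,9090), (0,5,9122), (0,5,9130), (0,5,9030), (0,0,1), (0,1,9223), (0,2,13323), (0,4,16226), (1,0,1506), (1,1,7563), (1,2,2335), (1,4,15918), (2,0,2338), (2,1,7047),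 (2,2,1525), (2,4,16038), (3,0,7002), (3,1,2361), (3,2,7599), (3,4,15982), (5,0,19), (5,1,1019), (5,2,1359), (5,4,5178), (6,0,111), (6,1,1087), (6,2,1319), (6,4,12460), (7,4,9867), (20,1,9220), (20,2,13320), (20,4,16227), (21,2,15375), (21,4,16231), (22,4,16235), (23,4,16210), (39,4,8650), (45,3,9222), (46,1,15374), (46,3,13322), (47,4,16211), (48,4,16239), (49,4,16215), (50,4,16219), (51,4,16194), (53,4,16230), (54,4,16238), (55,4,16234), (56,4,16195), (57,4,16223), (58,4,16199), (59,4,16203), (60,4,16178), (61,4,16214), (62,4,16222), (63,4,16218), (64,4,16179), (65,4,16207), (66,4,16183), (67,4,16187), (68,4,15906), (69,4,16198), (70,4,16206),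 (71,4,16202), (72,4,15907), (73,4,16191), (74,4,16167), (75,4,16171), (76,4,15378), (77,4,16182), (78,4,16190), (79,4,16186), (80,4,15379), (81,4,16175), (82,4,15895), (83,4,15899), (85,4,16166), (86,4,16174), (87,4,16170), (89,4,15903), (92,4,15894), (93,4,15902), (94,4,15898)]

/-- the spanning vectors among the derived ones -/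
def spanUse : List ℕ := [1,2,3,5,6,7,8,9,10,11,12,13,14,15,16,17,18,19,24,25,26,27,28,29,30,31,32,33,34,35,36,37,38,39,40,41,42,43,44,52]

/-- the derived multiples of the unit vectors -/
def spanUnit : List ℕ := [0,20,53,21,55,22,54,48,84,88,96,90,98,91,97,95,76,80,92,82,94,83,93,89,68,72,85,74,87,75,86,81,60,64,77,66,79,67,78,73,51,56,69,58,71,59,70,65,23,47,61,49,63,50,62,57]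

/-- coefficients of the echelon basis -/
def spanCombo : List (List ℤ) := [
  [1,0,1,3,3,3,3,1,0,1,0,3,3,1,1,3,1,3,0,1,2,3,0,1,3,1,2,0,1,0,2,2,0,2,0,0,0,0,2,0],
  [0,3,1,0,2,3,0,2,0,2,0,1,2,1,0,3,1,0,0,0,0,0,1,1,0,0,2,0,0,1,3,2,1,1,0,0,0,0,0,3],
  [2,2,0,3,3,2,2,2,3,0,0,2,1,2,1,3,2,0,0,2,2,3,1,1,3,0,2,1,0,3,2,3,1,3,1,0,0,3,3,0],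
  [1,3,3,0,1,3,0,3,1,1,1,2,2,1,1,0,2,3,3,3,2,3,2,1,3,1,1,0,0,2,0,1,3,3,0,0,0,2,0,2],
  [2,2,0,3,2,0,2,2,0,1,0,2,3,3,1,3,3,0,1,3,3,2,2,0,3,3,0,0,0,0,1,1,3,3,3,1,0,2,3,1],
  [2,1,1,1,2,2,0,3,1,1,0,2,1,1,1,0,0,3,3,3,2,3,0,0,3,1,0,0,0,2,1,3,2,2,0,0,0,1,1,1],
  [2,2,0,0,2,1,2,3,3,0,1,2,3,0,3,3,3,0,2,1,0,1,3,0,0,3,1,0,0,1,3,0,3,0,0,0,1,1,1,0],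
  [0,0,0,1,0,3,1,0,1,2,3,3,1,0,0,1,2,3,3,1,3,1,2,3,1,3,2,0,1,3,3,0,0,0,0,1,1,1,1,0],
  [3,0,2,0,3,1,2,2,3,0,0,2,2,1,0,2,2,0,0,0,0,1,3,1,1,3,3,0,1,3,2,2,3,2,0,1,0,3,3,0],
  [1,2,3,1,0,1,3,1,1,0,3,3,2,2,0,3,2,3,0,3,2,2,1,0,0,3,3,3,1,0,1,2,3,3,3,1,1,2,3,0],
  [3,3,0,2,0,0,3,3,3,3,1,2,1,0,0,1,1,3,2,0,3,3,1,3,2,0,3,1,0,1,1,0,0,3,1,0,1,1,2,0],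
  [0,3,0,0,1,1,0,2,0,1,0,2,0,2,0,0,0,3,1,0,1,0,0,0,1,3,3,0,1,2,2,3,3,0,0,1,1,2,0,0],
  [3,2,1,3,0,2,3,0,2,3,1,2,0,3,1,2,1,0,1,2,1,2,3,0,2,0,0,1,1,1,1,2,1,1,1,0,0,3,0,0],
  [2,0,3,0,1,3,3,3,2,3,3,0,2,1,0,0,0,3,1,1,2,2,2,0,2,3,1,3,1,2,3,1,1,0,3,1,1,0,2,0],
  [3,0,2,2,3,1,3,1,1,2,1,1,1,3,3,0,1,3,3,0,1,3,2,0,1,0,1,1,0,0,0,0,1,0,0,0,1,0,0,0],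
  [2,3,3,1,3,0,3,2,3,3,0,3,0,1,0,3,0,3,3,1,3,0,3,3,0,3,0,3,1,2,0,2,3,1,0,1,1,0,3,0],
  [3,0,1,3,3,1,0,2,0,2,0,1,3,3,0,0,0,0,1,0,3,1,0,1,1,0,3,1,0,2,2,2,2,2,0,0,0,0,2,0],
  [2,1,3,0,2,3,3,2,1,0,3,0,3,2,3,3,1,3,3,1,3,2,0,0,3,3,3,3,1,3,1,0,1,1,3,1,1,0,3,0],
  [2,2,2,1,1,2,0,0,3,0,0,2,3,2,0,3,2,0,2,1,3,1,1,0,2,3,3,0,1,3,2,3,1,3,0,0,1,0,3,0],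
  [0,0,3,2,3,0,0,3,0,0,3,0,1,3,0,1,1,3,2,0,1,1,3,0,2,3,3,0,0,2,1,1,1,0,3,1,1,0,0,0],
  [3,3,2,2,2,0,2,0,0,0,0,2,2,2,0,0,0,0,0,0,1,1,3,0,2,0,1,0,1,3,0,2,2,0,0,0,0,0,0,0],
  [1,3,2,0,0,3,3,2,3,1,0,1,1,1,0,2,1,0,1,1,3,0,1,1,0,0,2,0,1,0,2,2,0,2,0,0,0,0,0,0],
  [3,1,2,0,1,2,3,2,2,1,3,2,1,3,0,3,3,0,1,3,1,3,0,0,1,3,1,0,1,3,0,3,2,0,0,1,0,0,0,0],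
  [1,2,1,3,0,3,0,0,0,1,3,0,2,1,0,3,3,3,2,3,1,3,2,1,2,0,0,0,1,2,0,3,0,2,0,1,0,0,0,0],
  [2,1,1,3,1,0,1,0,3,1,3,0,1,2,0,2,3,0,3,2,1,0,2,1,3,3,1,0,1,2,0,3,2,2,0,1,0,0,0,0],
  [1,3,2,0,1,3,2,0,3,0,3,1,2,2,0,1,0,0,2,0,3,0,2,1,3,3,0,0,1,0,0,3,0,2,0,1,0,0,0,0],
  [2,3,1,1,0,3,3,1,0,1,0,2,3,3,0,2,2,3,3,3,3,2,2,1,3,1,1,0,0,2,3,0,2,2,1,0,0,0,0,0],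
  [2,0,0,3,0,0,0,3,0,0,3,3,1,2,0,0,3,0,0,3,0,1,1,0,3,3,1,0,0,0,3,1,2,0,3,1,0,0,0,0],
  [1,0,0,0,0,0,2,1,1,1,0,1,0,3,3,0,1,3,2,1,3,0,1,0,1,0,3,0,0,3,2,2,1,2,0,0,1,0,0,0],
  [1,1,3,2,3,3,2,2,0,0,3,3,0,2,3,0,1,0,3,1,0,2,0,0,3,2,3,3,0,2,1,3,1,2,3,1,1,0,0,0],
  [3,2,1,0,2,0,3,2,1,0,3,1,3,3,3,1,3,3,2,2,3,1,2,3,2,3,2,3,1,2,3,3,3,2,3,1,1,0,0,0],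
  [1,3,1,3,0,2,2,0,1,1,3,0,3,1,3,0,0,3,0,1,2,1,0,0,3,3,0,3,0,1,1,3,3,2,3,1,1,0,0,0],
  [2,1,2,2,1,1,0,0,0,3,3,3,2,2,3,0,0,0,2,3,3,2,3,0,0,2,1,3,0,1,3,1,1,2,3,1,1,0,0,0],
  [3,0,0,1,1,2,1,0,0,2,3,2,1,2,3,1,1,0,2,2,3,2,3,3,0,2,1,3,0,1,3,1,1,2,3,1,1,0,0,0],
  [3,2,1,2,3,2,3,3,0,0,0,3,2,0,3,1,0,0,0,2,3,1,0,3,2,3,0,0,0,1,0,0,3,2,0,0,1,0,0,0],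
  [3,0,3,0,0,0,2,0,0,0,0,0,0,0,0,0,0,0,3,0,2,0,2,0,2,0,1,0,0,0,0,0,2,0,0,0,0,0,0,0],
  [3,2,3,0,2,0,0,2,0,2,0,0,2,0,0,0,2,0,3,0,0,0,2,0,2,0,1,0,0,0,0,0,2,0,0,0,0,0,0,0],
  [2,1,1,0,0,0,0,0,0,2,0,0,2,0,0,0,0,0,1,2,3,0,1,0,2,0,2,0,1,0,2,2,0,0,0,0,0,0,0,0],
  [0,1,3,0,2,0,2,2,0,2,0,0,2,0,0,0,2,0,0,0,2,0,0,0,3,0,0,0,1,0,0,0,0,0,0,0,0,0,0,0],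
  [0,0,2,2,2,0,0,2,0,0,0,2,2,2,0,0,2,0,2,2,2,0,2,0,0,0,2,0,0,0,2,0,0,0,0,0,0,0,0,0]]

/-- membership of the images of the basis -/
def imgBasisA : List (List ℤ) := [
  [3,0,3,0,1,0,1,2,2,0,2,0,3,0,1,2,1,2,2,1,1,0,0,2,1,0,1,0,0,1,1,1,1,1,0,0,0,0,0,0],
  [0,3,3,0,1,3,3,3,3,2,2,0,0,0,1,3,1,2,1,0,0,1,0,3,1,0,1,1,1,0,1,0,0,1,0,0,0,0,1,0],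
  [0,0,1,0,2,0,0,3,2,2,2,1,1,0,0,1,2,1,0,0,0,0,0,2,1,0,1,0,1,0,3,1,0,1,3,0,0,0,0,0],
  [0,0,0,0,0,0,0,2,2,0,2,0,2,0,0,0,2,3,3,1,1,3,1,0,1,0,0,1,1,0,0,1,1,1,1,1,0,1,0,0],
  [3,0,3,0,0,1,2,3,3,0,0,0,1,0,1,0,0,3,3,1,3,1,0,3,0,0,0,0,0,0,0,1,0,1,1,0,0,1,0,0],
  [1,1,1,1,0,3,3,2,2,1,1,1,3,1,1,2,2,0,1,0,3,1,0,1,1,0,1,1,0,0,1,0,1,0,0,0,0,0,1,0],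
  [0,0,3,0,1,3,0,0,1,3,2,0,2,1,0,0,0,0,2,0,1,0,1,1,1,0,0,1,0,0,2,1,1,1,1,0,0,0,1,0],
  [0,0,0,2,1,2,3,1,2,3,1,1,3,1,0,2,2,3,0,0,1,3,1,1,0,0,1,0,1,1,2,1,0,0,2,0,0,1,1,0],
  [3,1,1,0,2,0,1,0,1,0,3,0,3,0,1,3,3,2,0,1,1,3,1,3,1,0,0,0,0,1,0,1,1,0,2,1,0,0,0,0],
  [2,1,1,2,0,0,2,3,2,0,3,1,3,1,1,0,1,3,1,1,0,1,0,2,0,0,0,0,1,1,3,1,0,0,3,1,0,1,0,0],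
  [3,3,3,0,2,1,0,1,3,0,2,1,3,0,1,3,1,3,2,1,1,3,1,1,0,0,0,1,0,1,3,0,0,0,3,1,0,0,0,0],
  [0,0,0,0,0,0,1,1,2,0,2,0,3,0,1,3,2,0,0,1,2,3,1,3,1,0,1,0,0,0,1,1,0,0,1,0,0,1,1,0],
  [0,0,3,0,1,2,2,0,2,3,1,0,0,1,1,1,1,1,1,0,3,1,0,3,1,0,0,0,1,0,2,0,0,1,0,0,0,0,0,0],
  [3,0,3,0,0,0,2,3,0,3,1,0,2,1,0,2,0,2,1,1,0,1,0,3,1,0,0,1,0,0,0,1,1,0,1,1,0,1,1,0],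
  [3,0,3,1,3,0,2,3,1,1,0,0,0,0,1,1,0,2,1,0,1,0,1,0,0,0,0,0,1,0,1,1,0,1,3,0,0,0,1,0],
  [3,3,2,0,3,0,0,1,3,0,0,0,2,0,0,1,3,3,0,1,0,0,0,3,1,0,1,0,0,1,1,1,0,1,1,0,0,0,0,0],
  [0,3,2,0,2,2,2,1,1,0,1,0,3,1,0,1,3,1,0,1,1,0,0,1,0,0,0,1,0,0,3,0,0,0,0,1,0,0,1,0],
  [3,1,3,0,0,2,2,3,1,1,3,0,2,1,0,3,3,0,1,0,0,0,0,3,0,0,0,0,0,0,0,1,0,0,2,0,0,0,0,0],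
  [3,3,2,3,1,1,1,0,2,1,2,0,1,1,0,1,2,0,0,0,0,1,0,0,1,0,1,1,1,1,0,1,0,0,2,0,0,1,0,0],
  [3,1,2,0,0,1,2,1,3,2,3,1,0,0,0,3,2,0,1,0,1,0,0,2,0,0,0,1,0,1,0,1,1,0,1,0,0,0,0,0],
  [3,0,3,0,0,0,1,2,3,3,2,1,3,0,0,3,0,0,0,1,0,0,0,2,0,0,1,1,1,1,3,1,0,1,0,0,0,1,1,0],
  [2,3,1,3,0,3,0,0,0,3,2,0,2,0,1,3,3,3,0,1,0,1,0,2,0,0,0,0,0,0,1,1,1,0,0,1,0,0,0,0],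
  [3,0,3,3,0,2,3,3,0,2,2,0,0,1,0,3,3,1,2,0,0,1,0,2,1,0,1,1,1,0,3,0,1,0,3,0,0,0,1,0],
  [0,1,3,1,2,0,2,2,0,1,3,0,3,1,1,3,0,2,0,1,1,0,0,0,0,0,1,0,0,0,1,0,1,1,3,0,0,1,1,0],
  [3,0,3,1,0,3,1,2,2,3,1,1,0,0,0,2,2,3,1,0,0,1,0,1,0,0,1,0,1,1,1,0,0,1,0,1,0,1,1,0],
  [3,3,3,0,0,3,0,0,3,1,0,1,3,0,1,1,2,3,2,1,3,1,0,3,0,0,0,0,1,1,0,0,0,1,3,1,0,1,1,0],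
  [3,0,3,1,0,3,1,2,2,3,1,1,0,0,0,2,2,3,1,0,0,1,0,1,0,0,1,0,1,1,0,0,0,0,1,0,0,0,0,0],
  [3,0,3,3,0,0,1,1,0,2,0,1,1,0,0,3,0,3,0,1,0,1,0,1,0,0,1,0,1,1,1,0,1,1,0,1,0,1,1,0],
  [3,0,1,3,1,0,1,2,3,2,0,0,1,0,1,3,1,0,3,1,1,3,1,3,0,0,1,0,1,0,0,1,1,0,1,0,0,0,0,0],
  [3,0,2,0,2,3,0,1,1,2,3,0,1,0,1,0,1,0,0,0,1,3,1,1,0,0,0,0,1,0,3,0,1,1,1,0,0,1,0,0],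
  [0,3,0,3,0,0,0,0,3,1,2,0,1,1,1,3,2,3,2,1,0,0,0,3,0,0,0,0,1,1,1,1,1,0,2,1,0,1,1,0],
  [2,1,2,3,0,2,3,3,0,2,1,0,0,0,0,2,2,3,2,1,0,1,0,1,1,0,0,0,1,0,3,0,0,1,3,1,0,1,0,0],
  [2,3,2,3,0,1,2,3,3,0,2,1,2,0,1,3,3,3,2,1,0,0,1,2,1,0,0,0,0,0,1,1,0,0,1,0,0,0,0,0],
  [3,0,2,3,2,1,2,0,2,0,1,0,2,1,1,3,1,2,0,0,2,3,1,3,0,0,0,0,1,0,0,0,1,1,0,0,0,1,0,0],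
  [0,1,0,0,0,0,0,2,2,0,2,0,2,0,0,2,3,2,3,0,3,1,0,2,1,0,0,0,1,0,3,1,0,0,0,0,0,1,1,0],
  [2,0,1,0,2,0,2,1,2,3,3,0,3,0,0,1,3,2,1,1,0,0,0,3,0,0,1,1,0,0,2,0,0,0,0,0,0,1,1,0],
  [0,0,0,3,3,1,3,2,3,0,0,0,2,0,1,0,3,0,0,1,3,1,0,2,1,0,0,1,0,1,1,1,0,0,2,0,0,0,0,0],
  [3,0,2,3,0,1,1,0,2,2,1,0,2,0,0,3,0,0,0,1,1,3,1,2,1,0,1,1,1,0,2,0,1,0,2,1,0,0,1,0],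
  [3,1,2,3,1,2,2,0,3,3,1,1,0,0,1,0,0,1,0,1,1,0,0,2,1,0,0,0,0,1,1,0,1,0,0,0,0,1,0,0],
  [3,0,2,0,2,3,3,0,0,1,3,0,1,1,1,0,3,3,0,1,0,0,1,1,1,0,1,1,1,0,1,0,0,0,0,1,0,1,1,0]]

/-- membership of the columns -/
def imgColsA : List (List ℤ) := [
  [3,0,0,0,0,0,0,0,0,0,0,0,0,0,0,0,0,0,0,0,0,0,0,0,0,0,0,0,0,0,0,0,0,0,0,0,0,0,0,0],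
  [0,1,0,1,0,3,3,0,0,2,1,0,1,0,0,1,1,2,3,1,1,0,1,1,0,0,0,0,0,1,2,1,1,0,3,0,0,1,0,0],
  [0,0,1,0,3,0,0,2,1,0,3,1,2,1,0,2,2,2,3,0,0,0,0,3,1,0,0,1,0,0,1,0,1,1,2,1,0,1,1,0],
  [0,0,0,1,0,3,2,3,0,3,3,1,2,0,1,1,1,0,1,1,2,3,1,0,0,0,1,0,0,1,0,1,0,1,3,0,0,0,0,0],
  [0,3,0,1,0,2,2,3,1,2,1,0,3,1,1,2,3,1,2,1,3,1,0,0,1,0,1,1,1,0,0,0,1,1,0,1,0,1,0,0],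
  [3,0,2,0,1,0,1,2,3,1,0,1,1,0,1,1,2,2,2,0,3,1,0,3,1,0,1,0,1,0,0,0,1,0,0,0,0,1,1,0],
  [0,0,0,3,1,1,1,0,1,2,3,0,0,1,1,0,2,2,2,0,0,0,1,0,0,0,1,0,0,1,2,1,1,0,2,0,0,1,1,0],
  [0,0,1,0,3,3,3,0,2,0,3,1,3,1,0,3,1,3,3,1,1,3,1,3,1,0,0,0,0,1,1,1,1,1,0,0,0,1,1,0],
  [0,1,0,0,0,1,1,2,3,3,2,0,0,1,0,1,3,0,3,1,3,1,0,2,1,0,0,1,0,0,3,0,1,0,3,1,0,1,1,0],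
  [1,0,1,0,0,0,2,1,0,1,1,1,3,1,0,1,1,1,0,0,0,1,0,0,0,0,1,1,1,1,1,1,0,1,0,1,0,1,1,0],
  [0,1,0,3,0,2,2,1,2,2,3,0,3,0,0,1,3,1,1,0,1,3,1,2,0,0,1,0,1,1,2,1,0,0,1,0,0,1,0,0],
  [1,0,2,0,3,0,3,0,0,1,2,1,1,0,0,2,3,2,3,1,1,0,0,2,1,0,0,1,1,1,3,1,0,0,0,1,0,0,1,0],
  [0,1,1,0,2,1,1,2,2,2,1,1,2,1,0,3,3,1,1,1,0,0,1,2,1,0,1,0,0,0,1,0,1,1,0,0,0,1,1,0],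
  [1,0,1,1,0,0,0,2,0,2,0,1,3,0,0,2,1,3,0,0,1,3,1,2,0,0,0,0,0,1,0,1,0,0,2,0,0,1,1,0],
  [0,1,0,0,0,2,2,1,2,3,2,0,0,1,1,0,1,3,0,1,1,0,1,2,0,0,0,1,1,1,0,1,0,1,1,1,0,0,0,0],
  [1,0,1,0,1,0,3,1,1,2,3,0,0,0,1,2,3,3,2,0,1,0,0,0,1,0,1,0,0,1,2,1,0,1,1,0,0,1,1,0],
  [0,0,0,1,0,0,0,2,2,0,2,0,2,0,0,0,0,2,3,1,0,0,0,1,0,0,1,0,1,1,1,0,1,1,1,0,0,0,0,0],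
  [0,0,3,0,2,0,0,3,0,0,0,0,3,0,1,0,3,3,3,0,0,0,0,1,0,0,1,0,1,0,2,1,0,0,0,0,0,0,1,0],
  [3,0,3,1,3,3,3,2,2,0,3,1,3,1,1,1,1,3,2,1,1,3,1,0,0,0,0,0,0,1,2,0,1,0,0,0,0,1,0,0],
  [0,1,3,0,1,2,2,1,1,0,0,0,0,1,1,1,2,3,0,0,1,0,0,2,1,0,1,0,0,1,0,0,1,0,2,0,0,0,1,0],
  [0,3,0,0,0,3,2,1,0,2,1,1,2,0,1,1,2,1,2,0,1,0,0,0,0,0,1,1,0,0,1,0,1,1,1,0,0,0,0,0],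
  [3,0,3,0,0,0,1,3,2,2,2,1,3,1,1,0,1,0,0,1,1,0,1,2,1,0,0,1,1,0,0,0,1,1,2,0,0,1,1,0],
  [0,0,0,0,0,0,0,0,0,3,3,1,3,1,0,3,2,0,0,1,1,3,1,1,1,0,1,0,0,1,3,1,0,1,2,1,0,1,0,0],
  [0,0,0,0,0,0,0,0,1,3,1,0,0,0,1,2,1,2,2,0,1,0,1,1,1,0,1,0,1,0,1,0,1,0,2,1,0,1,1,0],
  [0,0,0,0,0,3,3,0,3,2,2,0,1,1,0,3,3,0,1,0,0,0,0,3,1,0,1,1,1,1,1,0,0,1,2,0,0,1,1,0],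
  [0,0,0,0,3,0,1,3,3,1,0,1,2,0,0,3,0,3,2,0,3,1,0,3,0,0,1,1,1,0,3,1,0,1,1,0,0,0,1,0],
  [0,0,0,0,0,0,0,0,0,0,0,0,0,0,0,0,3,3,3,1,1,0,0,2,0,0,0,0,1,0,0,1,0,0,3,1,0,0,1,0],
  [0,0,0,0,0,0,0,0,0,0,0,0,0,0,0,0,0,1,1,1,1,3,1,2,1,0,0,1,1,0,0,1,1,1,3,0,0,0,0,0],
  [3,0,0,0,3,3,1,3,1,3,2,0,2,1,1,1,1,3,3,1,0,0,0,1,0,0,1,0,0,1,0,0,0,1,0,1,0,0,1,0],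
  [0,1,0,1,3,0,0,0,1,3,1,0,2,0,0,0,2,3,1,1,0,1,0,3,0,0,0,1,1,0,0,1,0,1,0,0,0,1,0,0],
  [0,3,3,0,1,3,3,1,1,3,1,1,3,0,0,2,0,1,3,0,1,0,0,0,1,0,1,0,0,1,2,0,0,0,2,1,0,0,0,0],
  [3,0,3,3,0,1,2,3,3,0,0,0,2,0,1,1,1,2,0,0,2,3,1,0,1,0,0,0,1,1,0,0,1,1,1,1,0,0,0,0],
  [3,0,3,0,0,0,2,1,1,0,3,1,0,1,0,1,3,3,1,1,0,0,1,2,1,0,0,1,0,1,1,0,0,1,1,0,0,1,0,0],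
  [0,1,0,0,0,1,1,2,3,2,0,0,2,0,0,2,2,2,0,0,0,1,0,2,1,0,0,0,1,1,3,1,1,0,1,0,0,1,1,0],
  [0,3,0,3,3,0,3,2,1,2,3,0,3,0,1,1,0,1,1,1,1,3,1,0,0,0,0,1,1,0,2,1,1,1,1,0,0,0,0,0],
  [3,0,0,0,3,1,2,0,0,2,2,0,3,0,1,3,1,1,0,0,3,1,0,2,0,0,0,0,1,0,3,0,0,0,0,0,0,0,1,0],
  [0,0,0,0,1,0,0,2,2,0,2,0,1,0,0,1,0,3,1,1,1,0,1,1,0,0,1,1,0,0,1,1,1,1,2,0,0,1,1,0],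
  [0,0,0,0,0,3,0,2,1,1,2,1,0,0,1,0,3,0,3,0,0,0,0,3,1,0,0,1,1,0,2,0,0,0,0,1,0,1,1,0],
  [0,0,3,0,1,0,0,2,3,3,3,0,3,0,1,1,0,2,1,0,1,3,1,1,1,0,1,1,1,0,1,0,0,1,2,1,0,1,1,0],
  [0,0,0,3,0,1,2,1,1,0,1,0,2,1,0,1,3,0,3,1,0,0,0,3,0,0,0,1,1,0,3,1,1,0,1,0,0,1,1,0],
  [0,0,0,3,0,1,1,0,3,0,3,0,2,0,1,0,3,2,3,0,1,0,1,1,1,0,0,1,0,1,1,0,1,0,0,1,0,0,1,0],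
  [0,0,1,0,3,0,3,2,1,1,1,0,0,1,0,0,1,2,2,1,3,1,0,1,0,0,0,0,0,0,2,0,0,0,0,1,0,1,1,0],
  [0,3,0,0,3,3,3,2,2,1,0,1,0,0,1,0,3,2,1,0,1,0,1,2,0,0,0,0,0,0,3,0,0,1,1,1,0,1,0,0],
  [3,0,3,0,0,1,2,3,0,0,3,1,2,0,1,1,1,2,0,1,1,3,1,2,0,0,1,1,1,0,2,1,0,0,1,1,0,1,0,0],
  [0,0,0,0,0,0,0,2,2,3,0,1,0,0,1,0,3,3,2,1,3,1,0,0,1,0,1,0,1,0,2,0,0,1,0,1,0,0,1,0],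
  [0,0,0,0,0,0,0,0,1,3,0,1,3,1,0,1,3,3,2,0,0,1,0,0,0,0,1,0,0,0,0,1,0,0,0,0,0,0,0,0],
  [3,0,2,0,0,0,1,2,0,1,2,1,0,1,1,2,1,0,1,0,3,1,0,1,0,0,0,0,1,1,2,1,1,1,0,1,0,1,0,0],
  [0,1,0,3,0,3,2,3,1,3,3,1,1,1,1,2,3,0,3,1,2,3,1,1,0,0,1,0,1,0,0,1,0,1,2,0,0,0,1,0],
  [3,0,3,1,1,3,0,3,3,2,1,0,3,1,1,3,3,0,2,1,1,0,1,0,0,0,0,1,0,0,3,1,0,0,1,1,0,0,1,0],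
  [0,1,3,0,1,0,3,3,0,2,0,1,3,0,1,3,1,2,3,0,0,1,0,1,1,0,1,1,0,1,3,0,1,1,1,1,0,1,1,0],
  [0,0,0,0,1,0,0,3,3,2,1,0,3,0,1,3,3,3,2,1,0,0,1,2,1,0,1,1,1,0,0,0,0,0,2,0,0,1,0,0],
  [0,0,0,0,0,3,2,3,2,1,1,0,0,1,0,2,1,2,2,0,0,1,0,3,1,0,1,0,0,1,2,1,1,1,1,1,0,0,1,0],
  [0,0,3,0,1,3,3,3,3,3,0,0,0,1,0,0,3,1,2,1,1,3,1,1,1,0,0,0,0,1,1,0,1,1,3,0,0,0,0,0],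
  [0,0,0,3,3,1,1,1,1,1,0,0,2,0,1,0,1,2,1,0,2,3,1,0,1,0,0,0,0,1,2,0,1,1,2,0,0,0,0,0],
  [0,3,0,0,0,0,0,2,2,0,3,0,3,0,0,0,1,3,2,0,0,0,1,0,1,0,0,1,1,1,2,1,1,1,1,0,0,1,0,0],
  [3,0,3,0,1,0,1,2,2,3,0,1,0,1,0,1,1,1,2,1,0,0,1,3,0,0,1,0,0,1,1,1,1,1,1,1,0,1,1,0]]

/-- membership of the images of the basis -/
def imgBasisB : List (List ℤ) := [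
  [3,0,3,3,0,2,3,0,1,0,1,0,0,0,0,2,1,0,1,1,0,1,0,2,0,0,1,1,0,1,2,1,0,1,3,0,0,0,1,0],
  [0,0,0,0,0,1,0,2,3,3,2,1,3,0,1,3,3,3,0,1,0,1,0,3,0,0,1,0,1,1,3,1,0,1,0,0,0,1,0,0],
  [1,1,2,0,3,1,0,0,0,1,0,1,1,0,1,1,3,3,2,0,0,0,0,0,0,0,0,0,0,1,0,0,1,1,0,0,0,0,1,0],
  [0,0,0,0,0,0,0,0,0,0,0,0,0,0,0,2,1,1,3,1,0,0,0,0,0,0,0,0,1,0,0,0,1,1,0,1,0,0,0,0],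
  [0,0,3,0,1,0,1,2,0,1,1,1,0,0,1,0,1,0,2,0,2,3,1,0,0,0,1,1,0,0,3,0,1,1,2,1,0,0,0,0],
  [0,3,0,0,1,0,1,0,0,2,1,1,1,1,1,0,1,1,2,0,2,3,1,2,0,0,1,1,0,1,2,0,0,1,1,0,0,0,1,0],
  [1,0,2,1,3,3,1,3,1,2,1,1,3,1,1,2,2,2,0,1,1,3,1,3,1,0,1,1,0,1,2,1,0,0,2,0,0,1,0,0],
  [1,0,2,0,0,2,2,1,0,0,2,1,1,0,1,0,0,2,3,1,0,1,0,1,1,0,1,0,1,0,1,0,1,1,0,1,0,0,0,0],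
  [0,2,2,0,2,3,0,3,3,3,0,1,1,1,0,1,1,0,1,1,0,1,0,1,0,0,1,1,1,0,3,0,0,0,0,1,0,1,1,0],
  [1,1,0,2,1,1,1,2,1,0,3,0,3,0,0,3,1,1,2,0,0,0,0,1,1,0,1,0,1,1,2,1,0,1,1,0,0,1,0,0],
  [1,2,1,3,0,0,1,3,2,0,0,1,3,1,0,2,1,0,2,1,1,0,1,2,1,0,1,1,1,0,2,1,1,0,3,0,0,1,0,0],
  [0,2,0,0,0,3,2,3,2,1,2,1,1,0,1,2,1,2,2,1,3,1,0,1,1,0,1,0,0,0,1,1,1,0,0,1,0,0,1,0],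
  [0,3,0,3,1,1,2,0,3,2,2,0,3,0,0,3,0,1,0,1,3,1,0,0,1,0,1,0,1,1,1,1,0,1,1,1,0,0,0,0],
  [0,1,0,0,3,3,3,2,0,3,3,1,2,0,1,2,3,0,2,0,1,0,0,3,1,0,0,1,0,1,0,0,1,1,0,1,0,0,1,0],
  [1,0,2,3,0,3,2,1,2,3,0,1,0,1,0,3,2,1,2,1,3,1,0,0,0,0,0,1,0,1,3,1,1,1,1,1,0,0,1,0],
  [0,1,0,1,1,1,1,2,0,3,0,0,1,1,0,3,2,3,3,1,1,0,0,1,1,0,0,0,0,0,1,1,1,0,1,0,0,1,0,0],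
  [2,1,1,0,2,2,0,3,3,1,2,0,2,0,1,1,3,3,3,0,1,3,1,2,0,0,1,1,0,0,2,0,0,0,1,0,0,1,0,0],
  [0,1,1,0,2,3,3,1,0,2,3,1,1,0,0,0,3,2,2,0,1,0,0,1,0,0,1,1,1,1,1,0,0,0,0,1,0,0,1,0],
  [0,1,1,0,2,1,0,3,0,0,0,1,0,0,1,2,2,1,3,0,1,0,0,3,1,0,0,1,1,1,3,0,0,0,1,0,0,0,1,0],
  [1,0,1,0,1,0,3,3,3,3,2,1,3,0,0,1,3,3,1,1,1,0,0,1,0,0,1,0,0,1,2,0,0,1,2,0,0,0,0,0],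
  [0,1,1,1,3,1,1,3,3,1,1,0,2,0,0,0,0,3,1,1,1,0,0,3,0,0,0,1,1,1,3,0,0,0,3,0,0,1,0,0],
  [1,0,1,0,3,0,3,2,2,0,1,0,0,0,1,2,0,1,3,1,2,3,1,2,1,0,1,0,1,1,1,0,0,1,3,0,0,1,0,0],
  [3,1,0,1,3,0,2,3,2,1,2,1,1,0,1,1,3,2,3,0,0,1,0,0,1,0,0,1,1,1,0,1,1,0,2,1,0,1,1,0],
  [3,0,3,0,3,1,1,1,1,1,2,0,0,1,1,1,0,1,2,0,2,3,1,0,0,0,0,1,0,1,1,1,0,1,1,1,0,0,1,0],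
  [0,0,0,0,0,1,2,3,0,0,2,1,3,0,0,3,2,1,3,1,1,0,1,1,0,0,1,0,0,1,0,1,0,0,1,0,0,0,1,0],
  [0,1,3,2,2,0,0,1,1,3,1,0,1,1,1,2,2,0,1,0,0,1,0,1,0,0,1,0,0,1,2,0,0,1,3,1,0,1,1,0],
  [1,0,1,3,0,2,2,1,3,3,0,0,2,1,0,0,3,2,3,0,1,3,1,1,1,0,1,1,0,1,2,0,0,0,2,0,0,1,1,0],
  [0,1,3,3,0,2,2,3,1,1,3,0,1,0,0,0,1,1,1,0,2,3,1,0,0,0,1,1,0,0,0,1,0,0,2,0,0,1,1,0],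
  [0,0,0,2,1,3,3,1,2,3,2,1,1,1,0,2,0,0,2,1,0,0,1,1,1,0,0,1,0,0,0,1,1,0,1,1,0,1,1,0],
  [0,0,1,3,2,1,0,3,2,3,3,0,2,1,1,0,1,1,0,1,0,1,0,1,0,0,0,1,0,1,3,0,1,1,0,1,0,1,0,0],
  [0,3,0,2,0,0,0,0,2,1,1,0,1,1,0,1,3,2,3,1,0,0,0,3,1,0,1,0,1,1,3,0,0,0,2,1,0,1,1,0],
  [0,1,1,3,2,2,1,3,3,2,1,0,3,0,1,2,3,2,1,0,2,3,1,1,1,0,0,1,1,1,1,1,1,1,1,1,0,1,0,0],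
  [0,0,1,2,2,3,3,1,1,3,0,1,1,1,0,2,0,1,2,1,2,3,1,1,1,0,1,0,1,1,1,1,0,1,1,0,0,0,1,0],
  [0,3,1,3,3,2,1,3,0,0,2,0,1,1,0,1,2,2,1,0,2,3,1,1,0,0,0,1,0,1,2,0,0,1,3,1,0,1,0,0],
  [0,3,1,0,2,0,0,1,1,2,3,1,0,0,0,3,3,3,3,1,3,1,0,2,0,0,1,0,1,0,1,0,0,1,3,1,0,1,1,0],
  [3,0,0,0,3,0,1,1,0,3,1,0,2,0,0,2,2,2,3,1,1,0,1,1,1,0,1,0,1,1,2,1,1,0,3,1,0,0,0,0],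
  [0,0,3,0,1,1,1,2,3,2,3,1,3,1,1,0,2,1,2,0,1,0,0,3,0,0,0,0,0,0,1,0,0,1,1,1,0,0,1,0],
  [2,3,2,0,0,3,1,0,2,1,0,1,0,0,0,0,2,1,3,1,1,0,0,1,1,0,1,1,1,1,1,1,1,1,1,1,0,1,1,0],
  [0,0,0,0,1,1,1,2,2,0,1,1,2,0,1,0,3,0,2,0,1,0,1,2,1,0,1,0,1,0,3,1,1,1,0,0,0,1,0,0],
  [3,0,2,0,1,1,3,1,2,3,2,1,0,1,1,3,2,0,2,0,3,1,0,0,0,0,0,0,0,0,0,0,0,0,3,1,0,0,0,0]]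

/-- membership of the columns -/
def imgColsB : List (List ℤ) := [
  [3,0,3,3,1,1,2,1,1,3,0,1,0,1,1,1,0,1,0,0,0,1,0,1,1,0,1,1,1,1,0,0,1,1,3,0,0,0,1,0],
  [0,1,1,0,3,0,1,1,1,1,1,1,1,1,1,2,2,1,1,0,1,3,1,2,0,0,1,1,0,0,1,0,0,1,2,0,0,1,0,0],
  [1,0,2,0,3,0,3,2,1,2,3,0,2,1,1,0,0,2,3,0,0,0,0,1,0,0,0,0,1,0,1,1,0,0,0,1,0,0,0,0],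
  [0,3,0,1,0,2,2,1,0,1,0,0,1,1,0,2,2,3,3,1,3,1,0,2,1,0,0,0,1,1,2,1,1,0,2,1,0,0,0,0],
  [0,0,0,0,0,1,1,0,1,2,2,0,3,1,0,1,1,0,3,0,0,0,0,1,1,0,1,1,1,1,3,0,0,1,2,0,0,1,1,0],
  [0,0,0,0,1,0,3,1,1,3,0,1,2,0,0,1,0,1,2,0,3,1,0,1,0,0,1,1,1,0,1,1,0,1,3,0,0,0,1,0],
  [0,0,0,0,0,0,0,0,0,1,3,0,1,0,0,3,2,2,0,0,1,0,0,3,0,0,0,0,1,0,1,0,1,1,2,0,0,0,1,0],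
  [0,0,0,0,0,0,0,2,1,1,1,1,2,1,1,2,1,2,2,1,0,0,1,3,1,0,0,0,0,1,3,1,1,1,0,0,0,0,0,0],
  [0,3,0,0,0,0,0,2,2,0,2,0,2,0,0,2,1,3,3,0,0,1,0,2,0,0,0,1,1,1,2,0,1,1,0,1,0,1,1,0],
  [3,0,3,0,1,0,1,2,2,3,3,0,1,1,1,1,1,3,1,0,0,0,0,1,1,0,0,1,1,1,1,1,1,0,1,1,0,0,0,0],
  [3,0,0,0,2,0,2,2,1,3,2,0,1,1,0,1,1,2,1,1,2,3,1,2,0,0,1,1,1,0,1,0,1,0,3,0,0,0,1,0],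
  [0,1,0,1,0,1,1,0,2,1,3,0,3,0,1,3,1,0,2,1,0,0,1,1,0,0,1,1,1,1,1,1,1,0,2,1,0,1,1,0],
  [0,0,0,0,1,0,1,0,0,0,0,0,0,0,0,2,0,0,2,1,1,3,1,2,1,0,1,0,1,1,0,0,0,0,0,0,0,0,0,0],
  [0,0,0,0,0,3,3,1,3,1,0,1,2,0,1,1,1,3,1,1,3,1,0,0,1,0,1,0,0,0,1,0,1,0,1,1,0,1,1,0],
  [0,0,0,3,0,2,2,3,3,0,3,0,1,0,0,0,0,0,0,1,1,3,1,1,1,0,0,0,0,1,1,1,0,1,3,0,0,1,1,0],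
  [0,0,1,0,0,0,0,0,3,0,1,1,2,0,1,0,3,1,0,1,3,1,0,3,0,0,0,0,1,1,1,1,1,0,2,0,0,0,1,0],
  [0,1,0,3,0,2,2,1,2,3,2,0,0,1,1,0,0,3,1,0,1,0,1,1,0,0,1,0,0,1,2,0,1,0,0,1,0,1,0,0],
  [1,0,2,0,3,0,3,2,1,2,3,0,1,0,0,0,1,0,3,0,1,0,0,1,1,0,0,1,1,0,1,1,0,0,3,1,0,1,0,0],
  [0,0,0,0,3,0,3,2,2,1,0,0,1,0,0,2,1,1,1,1,2,3,1,3,1,0,1,1,1,0,0,1,1,0,1,0,0,1,0,0],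
  [0,0,0,0,0,1,1,3,0,0,2,1,2,0,0,0,1,2,2,0,0,1,0,0,0,0,0,0,0,1,2,1,1,0,3,0,0,0,0,0],
  [0,1,0,0,0,2,2,3,0,3,0,0,2,1,1,0,2,2,3,0,0,1,0,2,1,0,0,1,1,0,1,1,1,0,0,1,0,1,0,0],
  [1,0,1,0,1,0,3,3,3,2,1,0,2,0,1,0,1,0,1,1,0,0,0,0,1,0,1,0,1,0,3,0,0,1,2,0,0,0,0,0],
  [0,0,1,0,3,0,1,1,3,3,2,1,1,0,0,3,1,3,1,0,1,0,1,3,0,0,1,1,1,1,0,0,1,1,1,1,0,0,1,0],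
  [0,0,0,1,0,3,3,3,3,2,2,0,1,0,1,1,3,1,0,0,1,3,1,0,0,0,0,0,1,1,3,0,1,0,0,0,0,0,1,0],
  [0,0,0,1,0,3,3,2,1,2,0,0,3,0,1,0,1,0,1,0,3,1,0,3,1,0,0,1,0,1,0,0,1,1,2,0,0,1,1,0],
  [0,0,3,0,1,0,1,2,3,1,0,1,3,1,1,2,1,2,2,1,2,3,1,1,0,0,0,0,1,0,2,0,1,1,3,0,0,1,1,0],
  [0,1,0,0,0,1,1,1,2,0,1,0,2,0,0,2,3,1,2,1,2,3,1,0,1,0,0,1,1,0,2,0,0,0,2,0,0,1,1,0],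
  [1,0,1,0,0,0,0,2,2,0,2,0,2,0,0,1,0,2,1,0,1,0,1,3,0,0,0,0,1,1,1,1,1,0,1,0,0,1,0,0],
  [0,1,3,0,1,2,3,1,1,3,3,1,1,0,0,3,3,0,1,1,0,0,1,3,0,0,0,0,0,1,0,0,1,0,2,1,0,0,1,0],
  [1,0,1,3,1,1,0,1,1,3,0,1,0,0,1,2,2,0,2,1,1,0,0,0,0,0,0,1,1,1,2,1,0,1,0,0,0,1,0,0],
  [0,0,0,0,1,0,3,1,1,3,2,0,2,1,0,0,3,2,0,0,0,1,0,0,1,0,0,1,1,1,2,0,0,1,0,1,0,1,0,0],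
  [0,0,0,0,0,3,3,2,1,2,0,1,3,0,1,0,3,1,1,0,1,0,0,0,1,0,0,0,1,1,1,0,0,0,2,0,0,0,0,0],
  [0,0,0,3,0,1,2,3,0,3,1,0,2,0,1,1,2,3,3,0,0,1,0,0,1,0,1,1,1,0,3,1,1,0,1,1,0,0,0,0],
  [0,0,1,0,3,0,0,0,3,2,1,0,2,1,0,2,2,3,1,0,3,1,0,3,1,0,1,0,1,1,1,1,0,0,0,0,0,1,0,0],
  [3,0,3,3,0,1,2,1,1,0,2,1,0,1,1,1,3,2,0,1,1,3,1,0,0,0,1,1,1,1,0,0,0,0,3,0,0,0,1,0],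
  [0,1,1,0,3,1,1,1,1,1,3,0,3,1,0,2,2,1,3,1,0,0,0,0,1,0,1,0,0,1,0,1,0,1,0,0,0,1,1,0],
  [0,0,0,3,3,1,1,1,1,1,0,0,2,1,0,1,2,2,2,0,0,0,1,1,1,0,1,1,1,1,0,1,0,0,1,1,0,0,0,0],
  [0,0,1,0,3,1,1,3,3,1,2,0,0,0,0,1,0,3,1,1,3,1,0,0,1,0,1,0,0,0,0,1,1,0,1,0,0,0,1,0],
  [1,0,1,3,3,1,3,0,0,0,3,1,3,1,1,1,3,3,0,1,0,0,0,2,1,0,1,0,1,0,2,0,0,1,0,0,0,1,0,0],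
  [0,3,1,0,3,0,0,1,1,2,0,0,0,1,1,1,0,1,2,0,1,0,0,0,0,0,1,1,1,0,2,1,0,0,2,0,0,1,1,0],
  [0,1,0,0,0,0,0,2,2,0,2,1,2,0,0,2,3,0,1,1,1,0,0,0,1,0,1,0,0,1,2,0,0,1,2,1,0,0,0,0],
  [1,0,1,0,3,0,3,2,2,1,3,1,1,1,1,1,2,0,1,0,0,0,1,3,1,0,0,0,0,1,2,0,0,1,1,0,0,0,0,0],
  [0,3,0,3,0,0,0,0,2,2,2,1,2,1,1,0,1,3,3,0,1,0,0,2,1,0,1,1,0,1,0,1,0,0,0,0,0,0,0,0],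
  [3,0,0,0,3,0,1,1,0,1,1,1,0,0,1,1,2,0,3,0,0,1,0,3,0,0,0,1,1,0,1,1,0,1,0,0,0,1,0,0],
  [0,1,1,0,3,2,1,1,2,0,1,0,0,1,0,3,2,1,2,0,0,0,1,3,1,0,1,1,0,0,0,0,1,1,3,1,0,1,1,0],
  [1,0,1,1,1,3,2,3,3,0,2,0,0,0,1,3,1,3,1,1,1,0,0,0,0,0,0,1,0,1,3,0,1,0,2,1,0,1,0,0],
  [0,3,0,0,0,3,3,3,3,3,3,1,1,0,1,2,2,0,3,1,1,0,0,3,1,0,0,0,0,0,3,0,0,0,3,1,0,0,1,0],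
  [3,0,3,0,0,0,0,0,0,1,2,1,0,1,1,2,3,3,0,1,0,1,0,2,1,0,1,0,1,0,3,0,0,0,3,0,0,1,0,0],
  [0,0,0,0,3,0,0,1,1,3,0,1,1,1,1,2,2,1,3,0,0,0,1,2,1,0,0,0,1,0,0,0,0,1,0,1,0,0,1,0],
  [0,0,0,0,0,1,2,1,1,0,2,0,3,0,1,2,2,2,1,0,2,3,1,0,1,0,0,1,0,0,3,0,1,0,0,1,0,1,1,0],
  [0,3,0,0,0,3,0,0,2,2,3,1,2,1,0,0,0,0,0,1,1,0,0,3,0,0,0,1,1,1,1,0,1,1,1,0,0,1,1,0],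
  [3,0,3,0,0,0,1,2,2,2,2,1,3,1,1,1,3,3,0,0,3,1,0,2,1,0,0,0,0,0,0,1,1,1,0,1,0,1,0,0],
  [3,0,3,1,0,3,0,2,2,1,1,0,2,1,0,0,1,0,3,1,0,0,0,3,0,0,0,0,0,1,1,1,0,1,0,1,0,0,1,0],
  [0,1,3,0,1,1,1,0,1,2,2,0,2,1,1,2,0,1,2,0,0,1,0,0,0,0,0,1,1,1,1,0,0,0,3,1,0,0,1,0],
  [0,0,3,0,1,1,1,0,3,0,3,0,3,1,1,1,0,3,0,0,1,0,0,1,1,0,0,0,0,0,2,0,1,0,1,0,0,0,0,0],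
  [0,0,0,3,1,1,1,0,0,0,3,1,0,0,1,2,0,2,3,0,3,1,0,1,0,0,0,1,1,1,0,0,0,0,1,1,0,1,1,0]]

end CfsgLib.RuPerm.Data
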